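import Mathlib

/-!
# Weierstrass curves with equal `j ≠ 0, 1728` are isomorphic étale locally
-/

set_option autoImplicit false

universe u

open Polynomial WeierstrassCurve

namespace Groth.Agent.EllJIso

variable {K : Type u} [Field K]

/-- isomorphic on an étale neighbourhood of `φ` -/
def Iso {A : Type u} [CommRing A] (φ : A →+* K) (W W' : WeierstrassCurve A) : Prop :=
  ∃ (B : Type u) (_ : CommRing B) (_ : Algebra A B) (ψ : B →+* K), Algebra.Etale A B ∧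
    ψ.comp (algebraMap A B) = φ ∧ ∃ C : VariableChange B, C • W.map (algebraMap A B) = W'.map (algebraMap A B)

variable {A : Type u} [CommRing A] {φ : A →+* K} {W W' : WeierstrassCurve A}

theorem Iso.of_change (C C' : VariableChange A) (h : Iso φ (C • W) (C' • W')) : Iso φ W W' := by
  obtain ⟨B, _, _, ψ, hB, hψ, D, hD⟩ := h
  refine ⟨B, ‹_›, ‹_›, ψ, hB, hψ, (C'.map (algebraMap A B))⁻¹ * D * C.map (algebraMap A B), ?_⟩
  rw [← map_variableChange, ← map_variableChange] at hD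
  rw [mul_smul, mul_smul, hD, inv_smul_smul]

theorem Iso.of_eq (C : VariableChange A) (h : C • W = W') : Iso φ W W' :=
  ⟨A, ‹_›, Algebra.id A, φ, inferInstance, RingHom.comp_id φ, C, by simp [h]⟩

theorem Iso.of_ext (B : Type u) [CommRing B] [Algebra A B] [Algebra.Etale A B] (ψ : B →+* K)
    (hψ : ψ.comp (algebraMap A B) = φ) (h : Iso ψ (W.map (algebraMap A B)) (W'.map (algebraMap A B))) :
    Iso φ W W' := by
  obtain ⟨C, _, _, χ, hC, hχ, D, hD⟩ := h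
  letI : Algebra A C := ((algebraMap B C).comp (algebraMap A B)).toAlgebra
  haveI : IsScalarTower A B C := IsScalarTower.of_algebraMap_eq fun _ => rfl
  refine ⟨C, ‹_›, ‹_›, χ, Algebra.Etale.comp A B C, ?_, D, ?_⟩
  · rw [IsScalarTower.algebraMap_eq A B C, ← RingHom.comp_assoc, hχ, hψ]
  · rwa [WeierstrassCurve.map_map, WeierstrassCurve.map_map] at hD

theorem Iso.of_unit (g : A) (hg : φ g ≠ 0)
    (h : ∀ (B : Type u) [CommRing B] (f : A →+* B) (ψ : B →+* K), ψ.comp f = φ → IsUnit (f g) →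
      Iso ψ (W.map f) (W'.map f)) : Iso φ W W' := by
  have hu : IsUnit (φ g) := isUnit_iff_ne_zero.mpr hg
  haveI : Algebra.Etale A (Localization.Away g) := Algebra.Etale.of_isLocalizationAway g
  refine Iso.of_ext (Localization.Away g) (IsLocalization.Away.lift g hu) (IsLocalization.Away.lift_comp g hu) ?_
  exact h _ _ _ (IsLocalization.Away.lift_comp g hu) (IsLocalization.Away.algebraMap_isUnit g)

theorem Iso.of_quad (b c : A) (x₀ : K) (hx : x₀ ^ 2 + φ b * x₀ + φ c = 0) (hd : 2 * x₀ + φ b ≠ 0)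
    (h : ∀ (B : Type u) [CommRing B] (f : A →+* B) (ψ : B →+* K) (x : B), ψ.comp f = φ →
      x ^ 2 + f b * x + f c = 0 → IsUnit (2 * x + f b) → ψ x = x₀ →
      Iso ψ (W.map f) (W'.map f)) : Iso φ W W' := by
  let F : A[X] := X ^ 2 + C b * X + C c
  have hF : F.Monic := by unfold F; monicity!
  let P : StandardEtalePair A := ⟨F, hF, derivative F, ⟨1, 0, 1, by ring⟩⟩
  letI : Algebra A K := φ.toAlgebra
  have hdF : derivative F = C 2 * X + C b := by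
    simp [F, map_ofNat, one_add_one_eq_two]
  have hmap : P.HasMap x₀ := by
    refine ⟨?_, ?_⟩
    · show aeval x₀ F = 0
      simp only [F, map_add, map_mul, map_pow, aeval_X, aeval_C]
      exact hx
    · show IsUnit (aeval x₀ (derivative F))
      rw [hdF]
      simp only [map_add, map_mul, aeval_X, aeval_C, map_ofNat]
      exact isUnit_iff_ne_zero.mpr hd
  refine Iso.of_ext P.Ring (P.lift x₀ hmap).toRingHom (P.lift x₀ hmap).comp_algebraMap ?_
  refine h _ _ _ P.X (P.lift x₀ hmap).comp_algebraMap ?_ ?_ (P.lift_X x₀ hmap)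
  · have h1 : aeval P.X F = 0 := P.hasMap_X.1
    simpa [F] using h1
  · have h1 : IsUnit (aeval P.X (derivative F)) := P.hasMap_X.2
    rw [hdF] at h1
    simpa only [map_add, map_mul, aeval_X, aeval_C, map_ofNat] using h1

/-- unit `c₄, c₆, Δ` and equal `j` -/
structure SameJ (W W' : WeierstrassCurve A) : Prop where
  c4 : IsUnit W.c₄
  c4' : IsUnit W'.c₄
  c6 : IsUnit W.c₆
  c6' : IsUnit W'.c₆
  d : IsUnit W.Δ
  d' : IsUnit W'.Δ
  rel : W.c₄ ^ 3 * W'.Δ = W'.c₄ ^ 3 * W.Δ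

theorem SameJ.map (h : SameJ W W') {B : Type u} [CommRing B] (f : A →+* B) : SameJ (W.map f) (W'.map f) where
  c4 := by rw [map_c₄]; exact h.c4.map f
  c4' := by rw [map_c₄]; exact h.c4'.map f
  c6 := by rw [map_c₆]; exact h.c6.map f
  c6' := by rw [map_c₆]; exact h.c6'.map f
  d := by rw [map_Δ]; exact h.d.map f
  d' := by rw [map_Δ]; exact h.d'.map f
  rel := by rw [map_c₄, map_Δ, map_c₄, map_Δ, ← map_pow, ← map_pow, ← map_mul, ← map_mul, h.rel]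

theorem SameJ.change (h : SameJ W W') (C C' : VariableChange A) : SameJ (C • W) (C' • W') where
  c4 := by rw [variableChange_c₄]; exact ((Units.isUnit _).pow _).mul h.c4
  c4' := by rw [variableChange_c₄]; exact ((Units.isUnit _).pow _).mul h.c4'
  c6 := by rw [variableChange_c₆]; exact ((Units.isUnit _).pow _).mul h.c6
  c6' := by rw [variableChange_c₆]; exact ((Units.isUnit _).pow _).mul h.c6'
  d := by rw [variableChange_Δ]; exact ((Units.isUnit _).pow _).mul h.d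
  d' := by rw [variableChange_Δ]; exact ((Units.isUnit _).pow _).mul h.d'
  rel := by
    rw [variableChange_c₄, variableChange_Δ, variableChange_c₄, variableChange_Δ]
    linear_combination ((C.u⁻¹ : Aˣ) : A) ^ 12 * ((C'.u⁻¹ : Aˣ) : A) ^ 12 * h.rel

theorem SameJ.symm (h : SameJ W W') : SameJ W' W := ⟨h.c4', h.c4, h.c6', h.c6, h.d', h.d, h.rel.symm⟩

/-- normal form with `2` invertible and `3 ≡ 0` -/
structure NF3 (W : WeierstrassCurve A) : Prop where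
  a₁ : W.a₁ = 0
  a₃ : W.a₃ = 0
  a₄ : W.a₄ = 0

theorem NF3.map (h : NF3 W) {B : Type u} [CommRing B] (f : A →+* B) : NF3 (W.map f) :=
  ⟨by simp [h.a₁], by simp [h.a₃], by simp [h.a₄]⟩

/-- normal form for `2 ≡ 0` -/
structure NF2 (W : WeierstrassCurve A) : Prop where
  a₁ : W.a₁ = 1
  a₃ : W.a₃ = 0
  a₄ : W.a₄ = 0

theorem NF2.map (h : NF2 W) {B : Type u} [CommRing B] (f : A →+* B) : NF2 (W.map f) :=
  ⟨by simp [h.a₁], by simp [h.a₃], by simp [h.a₄]⟩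

theorem completeSquare {h : A} (hh : 2 * h = 1) (W : WeierstrassCurve A) :
    ((⟨1, 0, -W.a₁ * h, -W.a₃ * h⟩ : VariableChange A) • W).a₁ = 0 ∧
      ((⟨1, 0, -W.a₁ * h, -W.a₃ * h⟩ : VariableChange A) • W).a₃ = 0 := by
  constructor
  · rw [variableChange_a₁]; simp only [inv_one, Units.val_one, one_mul]; linear_combination -W.a₁ * hh
  · rw [variableChange_a₃]; simp only [inv_one, Units.val_one, one_pow, one_mul, zero_mul, add_zero]
    linear_combination -W.a₃ * hh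

/-- bring one curve into the normal form `y² = x³ + a₂x² + a₆` -/
theorem toNF3 (h2 : IsUnit (2 : A)) (h3 : φ 3 = 0) (hc : IsUnit W.c₄)
    (k : ∀ (B : Type u) [CommRing B] (f : A →+* B) (ψ : B →+* K) (C : VariableChange B),
      ψ.comp f = φ → NF3 (C • W.map f) → Iso ψ (W.map f) (W'.map f)) : Iso φ W W' := by
  obtain ⟨h, hh⟩ := h2.exists_right_inv
  let C₀ : VariableChange A := ⟨1, 0, -W.a₁ * h, -W.a₃ * h⟩
  obtain ⟨e1, e3⟩ : (C₀ • W).a₁ = 0 ∧ (C₀ • W).a₃ = 0 := completeSquare hh W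
  have hc₀ : IsUnit (C₀ • W).c₄ := by
    rw [variableChange_c₄]; exact ((Units.isUnit _).pow _).mul hc
  have ha2 : φ (C₀ • W).a₂ ≠ 0 := fun e => by
    have := (hc₀.map φ).ne_zero
    simp only [c₄, b₂, b₄, e1, e3, map_sub, map_mul, map_add, map_pow, map_ofNat, map_zero] at this
    apply this
    rw [e, show (24 : K) = 3 * 8 by norm_num, ← map_ofNat φ 3, h3]
    ring
  have h2K : (2 : K) ≠ 0 := by rw [← map_ofNat φ 2]; exact (h2.map φ).ne_zero
  obtain ⟨δ, hδ⟩ : ∃ δ : A, φ ((C₀ • W).a₄ + 2 * δ * (C₀ • W).a₂ + 3 * δ ^ 2) ≠ 0 := by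
    by_cases e : φ (C₀ • W).a₄ = 0
    · refine ⟨1, ?_⟩
      rw [map_add, map_add, e, map_mul, map_mul, map_mul, map_ofNat, h3]
      simpa using mul_ne_zero h2K ha2
    · exact ⟨0, by simpa using e⟩
  let C₁ : VariableChange A := ⟨1, δ, 0, 0⟩
  have f1 : (C₁ • C₀ • W).a₁ = 0 := by rw [variableChange_a₁, e1]; simp [C₁]
  have f3 : (C₁ • C₀ • W).a₃ = 0 := by rw [variableChange_a₃, e3, e1]; simp [C₁]
  have f4 : φ (C₁ • C₀ • W).a₄ ≠ 0 := by
    rw [variableChange_a₄, e1, e3]; simpa [C₁] using hδ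
  have f2 : φ (C₁ • C₀ • W).a₂ ≠ 0 := by
    rw [variableChange_a₂, e1]
    simp only [C₁, inv_one, Units.val_one, one_pow, one_mul, map_sub, map_add, map_mul, h3]
    simpa using ha2
  refine Iso.of_unit _ f4 fun B _ f ψ hψ hu => ?_
  obtain ⟨i, hi⟩ := hu.exists_right_inv
  have hi' : ψ i = (φ (C₁ • C₀ • W).a₄)⁻¹ := by
    refine eq_inv_of_mul_eq_one_left ?_
    rw [← hψ, RingHom.comp_apply, ← map_mul, mul_comm, hi, map_one]
  let b : B := 2 * f (C₁ • C₀ • W).a₂ * i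
  have hψ3 : ψ 3 = 0 := by rw [← map_ofNat f 3, ← RingHom.comp_apply, hψ, h3]
  have hb : ψ b ≠ 0 := by
    simp only [b, map_mul, map_ofNat, hi', ← RingHom.comp_apply, hψ]
    exact mul_ne_zero (mul_ne_zero h2K f2) (inv_ne_zero f4)
  refine Iso.of_quad b (3 * i) (-ψ b) (by rw [map_mul ψ 3 i, hψ3]; ring)
    (by rw [show 2 * -ψ b + ψ b = -ψ b by ring]; exact neg_ne_zero.mpr hb) fun B' _ g χ w hχ hw _ hw₀ => ?_
  refine Iso.of_unit w (by rw [hw₀]; exact neg_ne_zero.mpr hb) fun B'' _ g' ω hω hu' => ?_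
  obtain ⟨r, hr⟩ := hu'.exists_right_inv
  let F : A →+* B'' := g'.comp (g.comp f)
  have hF : ω.comp F = φ := by
    rw [← RingHom.comp_assoc, hω, ← RingHom.comp_assoc, hχ, hψ]
  simp only [WeierstrassCurve.map_map]
  refine k B'' F ω (⟨1, r, 0, 0⟩ * (C₁ * C₀).map F) hF ?_
  have hmap : (C₁ * C₀).map F • W.map F = (C₁ • C₀ • W).map F := by rw [map_variableChange, mul_smul]
  rw [mul_smul, hmap]
  have hq : F (C₁ • C₀ • W).a₄ * g' w ^ 2 + 2 * F (C₁ • C₀ • W).a₂ * g' w + 3 = 0 := by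
    have e := congrArg g' hw
    simp only [map_add, map_mul, map_pow, map_zero, map_ofNat, b] at e
    have e' : F (C₁ • C₀ • W).a₄ * g' (g i) = 1 := by
      show g' (g (f _)) * _ = 1
      rw [← map_mul, ← map_mul, hi, map_one, map_one]
    linear_combination F (C₁ • C₀ • W).a₄ * e - (2 * F (C₁ • C₀ • W).a₂ * g' w + 3) * e'
  refine ⟨?_, ?_, ?_⟩
  · rw [variableChange_a₁, map_a₁, f1]; simp
  · rw [variableChange_a₃, map_a₃, map_a₁, f1, f3]; simp
  · rw [variableChange_a₄, map_a₄, map_a₃, map_a₂, map_a₁, f1, f3]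
    simp only [inv_one, Units.val_one, one_pow, one_mul, map_zero, mul_zero, sub_zero, zero_mul]
    linear_combination r ^ 2 * hq - (F (C₁ • C₀ • W).a₄ * (r * g' w + 1) + 2 * F (C₁ • C₀ • W).a₂ * r) * hr

/-- bring one curve into the normal form `y² + xy = x³ + a₂x² + a₆` -/
theorem toNF2 (h2 : φ 2 = 0) (hc : IsUnit W.c₄)
    (k : ∀ (B : Type u) [CommRing B] (f : A →+* B) (ψ : B →+* K) (C : VariableChange B),
      ψ.comp f = φ → NF2 (C • W.map f) → Iso ψ (W.map f) (W'.map f)) : Iso φ W W' := by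
  have ha1 : φ W.a₁ ≠ 0 := fun e => by
    have := (hc.map φ).ne_zero
    simp only [c₄, b₂, b₄, map_sub, map_mul, map_add, map_pow, map_ofNat, e] at this
    apply this
    rw [show (24 : K) = 2 * 12 by norm_num, show (4 : K) = 2 * 2 by norm_num, ← map_ofNat φ 2, h2]
    ring
  refine Iso.of_unit _ ha1 fun A₁ _ f₁ φ₁ hφ₁ hu₁ => ?_
  let V := W.map f₁
  let C₀ : VariableChange A₁ := ⟨hu₁.unit, 0, 0, 0⟩
  have h2' : φ₁ 2 = 0 := by rw [← map_ofNat f₁ 2, ← RingHom.comp_apply, hφ₁, h2]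
  have e1 : (C₀ • V).a₁ = 1 := by
    rw [variableChange_a₁, map_a₁]; simp [C₀]
  let C₁ : VariableChange A₁ := ⟨1, -(C₀ • V).a₃, 0, 0⟩
  have f1 : (C₁ • C₀ • V).a₁ = 1 := by rw [variableChange_a₁, e1]; simp [C₁]
  have f3 : (C₁ • C₀ • V).a₃ = 0 := by rw [variableChange_a₃, e1]; simp [C₁]
  obtain ⟨δ, hδ⟩ : ∃ δ : A₁, φ₁ ((C₁ • C₀ • V).a₄ - 4 * δ * (C₁ • C₀ • V).a₂ - δ + 12 * δ ^ 2) ≠ 0 := by
    by_cases e : φ₁ (C₁ • C₀ • V).a₄ = 0
    · refine ⟨1, ?_⟩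
      simp only [map_add, map_sub, map_mul, map_pow, map_ofNat, map_one, e]
      rw [show (12 : K) = 2 * 6 by norm_num, show (4 : K) = 2 * 2 by norm_num, ← map_ofNat φ₁ 2, h2']
      norm_num
    · exact ⟨0, by simpa using e⟩
  let C₂ : VariableChange A₁ := ⟨1, -2 * δ, 0, δ⟩
  let U := C₂ • C₁ • C₀ • V
  have g1 : U.a₁ = 1 := by rw [variableChange_a₁, f1]; simp [C₂]
  have g3 : U.a₃ = 0 := by rw [variableChange_a₃, f1, f3]; simp [C₂]
  have g4 : φ₁ U.a₄ ≠ 0 := by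
    have : U.a₄ = (C₁ • C₀ • V).a₄ - 4 * δ * (C₁ • C₀ • V).a₂ - δ + 12 * δ ^ 2 := by
      rw [variableChange_a₄, f1, f3]
      simp only [C₂, inv_one, Units.val_one]; ring
    rw [this]; exact hδ
  refine Iso.of_unit _ g4 fun B _ f ψ hψ hu => ?_
  obtain ⟨i, hi⟩ := hu.exists_right_inv
  let b : B := -(4 * f U.a₂ + 1) * i
  have hψ2 : ψ 2 = 0 := by rw [← map_ofNat f 2, ← RingHom.comp_apply, hψ, h2']
  have hψ4 : ψ 4 = 0 := by rw [show (4 : B) = 2 * 2 by norm_num, map_mul, hψ2, zero_mul]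
  have hψ12 : ψ 12 = 0 := by rw [show (12 : B) = 2 * 6 by norm_num, map_mul, hψ2, zero_mul]
  have hb : ψ b ≠ 0 := by
    simp only [b, map_mul, map_neg, map_add, map_one, hψ4, zero_mul, zero_add, neg_mul, one_mul, ne_eq, neg_eq_zero]
    intro h
    have := congrArg ψ hi
    rw [map_mul, h, mul_zero, map_one] at this
    exact zero_ne_one this
  refine Iso.of_quad b (12 * i) (-ψ b) (by rw [map_mul ψ 12 i, hψ12]; ring)
    (by rw [show 2 * -ψ b + ψ b = -ψ b by ring]; exact neg_ne_zero.mpr hb) fun B' _ g χ w hχ hw _ hw₀ => ?_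
  refine Iso.of_unit w (by rw [hw₀]; exact neg_ne_zero.mpr hb) fun B'' _ g' ω hω hu' => ?_
  obtain ⟨t, ht⟩ := hu'.exists_right_inv
  let G : A₁ →+* B'' := g'.comp (g.comp f)
  have hG : ω.comp G = φ₁ := by rw [← RingHom.comp_assoc, hω, ← RingHom.comp_assoc, hχ, hψ]
  simp only [WeierstrassCurve.map_map]
  refine k B'' _ ω (⟨1, -2 * t, 0, t⟩ * (C₂ * C₁ * C₀).map G) (by
    show ω.comp (G.comp f₁) = φ
    rw [← RingHom.comp_assoc, hG, hφ₁]) ?_
  show NF2 (_ • W.map (G.comp f₁))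
  have hmap : (C₂ * C₁ * C₀).map G • W.map (G.comp f₁) = U.map G := by
    rw [← WeierstrassCurve.map_map, map_variableChange, mul_smul, mul_smul]
  rw [mul_smul, hmap]
  have hq : G U.a₄ * g' w ^ 2 - (4 * G U.a₂ + 1) * g' w + 12 = 0 := by
    have e := congrArg g' hw
    simp only [map_add, map_mul, map_neg, map_pow, map_zero, map_one, map_ofNat, b] at e
    have e' : G U.a₄ * g' (g i) = 1 := by
      show g' (g (f _)) * _ = 1
      rw [← map_mul, ← map_mul, hi, map_one, map_one]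
    linear_combination G U.a₄ * e - (-(4 * G U.a₂ + 1) * g' w + 12) * e'
  refine ⟨?_, ?_, ?_⟩
  · rw [variableChange_a₁, map_a₁, g1]; simp
  · rw [variableChange_a₃, map_a₃, map_a₁, g1, g3]; simp
  · rw [variableChange_a₄, map_a₄, map_a₃, map_a₂, map_a₁, g1, g3]
    simp only [inv_one, Units.val_one, one_pow, one_mul, map_zero, map_one, mul_zero, sub_zero]
    linear_combination t ^ 2 * hq - (G U.a₄ * (t * g' w + 1) - (4 * G U.a₂ + 1) * t) * ht

theorem eq_of_mul_eq_zero {x y : A} (hy : IsUnit y) (h : x * y = 0) : x = 0 := hy.mul_left_eq_zero.mp h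

section Final

variable [IsAlgClosed K]

theorem iso_of_short (h2 : IsUnit (2 : A)) (h3 : IsUnit (3 : A)) (hS : SameJ W W') : Iso φ W W' := by
  obtain ⟨h, hh⟩ := h2.exists_right_inv
  obtain ⟨t, ht⟩ := h3.exists_right_inv
  have key : ∀ V : WeierstrassCurve A, ∃ C : VariableChange A, (C • V).a₁ = 0 ∧ (C • V).a₂ = 0 ∧ (C • V).a₃ = 0 := by
    intro V
    obtain ⟨e1, e3⟩ := completeSquare hh V
    let C₀ : VariableChange A := ⟨1, 0, -V.a₁ * h, -V.a₃ * h⟩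
    refine ⟨⟨1, -(C₀ • V).a₂ * t, 0, 0⟩ * C₀, ?_, ?_, ?_⟩ <;> rw [mul_smul]
    · rw [variableChange_a₁, e1]; simp
    · rw [variableChange_a₂, e1]; simp only [inv_one, Units.val_one]; linear_combination -(C₀ • V).a₂ * ht
    · rw [variableChange_a₃, e1, e3]; simp
  obtain ⟨C, w1, w2, w3⟩ := key W
  obtain ⟨C', w1', w2', w3'⟩ := key W'
  refine Iso.of_change C C' ?_
  have hS := hS.change C C'
  generalize C • W = V at *
  generalize C' • W' = V' at *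
  obtain ⟨h4, h4', h6, h6', -, -, hrel⟩ := hS
  have h48 : IsUnit (-48 : A) := by
    rw [show (-48 : A) = -(2 ^ 4 * 3) by norm_num]; exact ((h2.pow _).mul h3).neg
  have h864 : IsUnit (-864 : A) := by
    rw [show (-864 : A) = -(2 ^ 5 * 3 ^ 3) by norm_num]; exact ((h2.pow _).mul (h3.pow _)).neg
  have u4 : IsUnit V.a₄ := isUnit_of_mul_isUnit_right (x := (-48 : A)) (by
    convert h4 using 1; simp only [c₄, b₂, b₄, w1, w2, w3]; ring)
  have u4' : IsUnit V'.a₄ := isUnit_of_mul_isUnit_right (x := (-48 : A)) (by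
    convert h4' using 1; simp only [c₄, b₂, b₄, w1', w2', w3']; ring)
  have u6 : IsUnit V.a₆ := isUnit_of_mul_isUnit_right (x := (-864 : A)) (by
    convert h6 using 1; simp only [c₆, b₂, b₄, b₆, w1, w2, w3]; ring)
  have u6' : IsUnit V'.a₆ := isUnit_of_mul_isUnit_right (x := (-864 : A)) (by
    convert h6' using 1; simp only [c₆, b₂, b₄, b₆, w1', w2', w3']; ring)
  have heq : V.a₄ ^ 3 * V'.a₆ ^ 2 - V'.a₄ ^ 3 * V.a₆ ^ 2 = 0 := by
    refine eq_of_mul_eq_zero ((h48.pow 3).mul ((h2.pow 4).mul (h3.pow 3)).neg) ?_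
    simp only [c₄, Δ, b₂, b₄, b₆, b₈, w1, w2, w3, w1', w2', w3'] at hrel
    linear_combination hrel
  obtain ⟨d, hd⟩ := (u6'.mul u4).exists_right_inv
  let q : A := V.a₆ * V'.a₄ * d
  have uq : IsUnit q := (u6.mul u4').mul (IsUnit.of_mul_eq_one_right _ hd)
  obtain ⟨x₀, hx₀⟩ := IsAlgClosed.exists_pow_nat_eq (φ q) two_pos
  have hne : x₀ ≠ 0 := fun e => (uq.map φ).ne_zero (by rw [← hx₀, e]; ring)
  have h2K : (2 : K) ≠ 0 := by rw [← map_ofNat φ 2]; exact (h2.map φ).ne_zero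
  refine Iso.of_quad 0 (-q) x₀ (by rw [map_zero, map_neg]; linear_combination hx₀)
    (by rw [map_zero, add_zero]; exact mul_ne_zero h2K hne) fun B _ f ψ x hψ hx hu _ => ?_
  have hxu : IsUnit x := by
    rw [map_zero, add_zero] at hu; exact isUnit_of_mul_isUnit_right hu
  have hx2 : x ^ 2 = f q := by rw [map_zero, map_neg] at hx; linear_combination hx
  have hd' : f V'.a₆ * f V.a₄ * f d = 1 := by rw [← map_mul, ← map_mul, hd, map_one]
  have heq' : f V.a₄ ^ 3 * f V'.a₆ ^ 2 - f V'.a₄ ^ 3 * f V.a₆ ^ 2 = 0 := by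
    simpa using congrArg f heq
  have hu4 : x ^ 4 * f V'.a₄ = f V.a₄ := by
    refine sub_eq_zero.mp (eq_of_mul_eq_zero (((u6'.map f).pow 2).mul ((u4.map f).pow 2)) ?_)
    rw [show x ^ 4 = f q ^ 2 by rw [← hx2]; ring, map_mul, map_mul]
    linear_combination -heq' + (f V.a₆ ^ 2 * f V'.a₄ ^ 3) * (f V'.a₆ * f V.a₄ * f d + 1) * hd'
  have hu6 : x ^ 6 * f V'.a₆ = f V.a₆ := by
    have e : f V.a₆ * f V'.a₄ = x ^ 2 * (f V'.a₆ * f V.a₄) := by
      rw [hx2, map_mul, map_mul]; linear_combination -(f V.a₆ * f V'.a₄) * hd'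
    refine sub_eq_zero.mp (eq_of_mul_eq_zero (u4.map f) ?_)
    linear_combination -(x ^ 4) * e + (f V.a₆) * hu4
  refine Iso.of_eq ⟨hxu.unit, 0, 0, 0⟩ ?_
  have hinv : ((hxu.unit⁻¹ : Bˣ) : B) * x = 1 := hxu.val_inv_mul
  ext
  · simp [variableChange_a₁, w1, w1']
  · simp [variableChange_a₂, w1, w2, w2']
  · simp [variableChange_a₃, w1, w3, w3']
  · simp only [variableChange_a₄, map_a₄, map_a₁, map_a₂, map_a₃, w1, w2, w3, map_zero]
    linear_combination (-((hxu.unit⁻¹ : Bˣ) : B) ^ 4) * hu4 + f V'.a₄ *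
      (((hxu.unit⁻¹ : Bˣ) : B) * x + 1) * ((((hxu.unit⁻¹ : Bˣ) : B) * x) ^ 2 + 1) * hinv
  · simp only [variableChange_a₆, map_a₆, map_a₄, map_a₁, map_a₂, map_a₃, w1, w2, w3, map_zero]
    linear_combination (-((hxu.unit⁻¹ : Bˣ) : B) ^ 6) * hu6 + f V'.a₆ *
      ((((hxu.unit⁻¹ : Bˣ) : B) * x) ^ 3 + 1) *
      ((((hxu.unit⁻¹ : Bˣ) : B) * x) ^ 2 + ((hxu.unit⁻¹ : Bˣ) : B) * x + 1) * hinv

theorem iso_of_NF3 (h2 : IsUnit (2 : A)) (h3 : φ 3 = 0) (hW : NF3 W) (hW' : NF3 W') (hS : SameJ W W') :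
    Iso φ W W' := by
  obtain ⟨h4, h4', -, -, hΔ, hΔ', hrel⟩ := hS
  simp only [c₄, Δ, b₂, b₄, b₆, b₈, hW.a₁, hW.a₃, hW.a₄] at h4 hΔ hrel
  simp only [c₄, Δ, b₂, b₄, b₆, b₈, hW'.a₁, hW'.a₃, hW'.a₄] at h4' hΔ' hrel
  ring_nf at h4 h4'
  have u2 : IsUnit W.a₂ := (isUnit_pow_iff two_ne_zero).mp (isUnit_of_mul_isUnit_left h4)
  have u2' : IsUnit W'.a₂ := (isUnit_pow_iff two_ne_zero).mp (isUnit_of_mul_isUnit_left h4')
  have u6' : IsUnit W'.a₆ := isUnit_of_mul_isUnit_left (y := -64 * W'.a₂ ^ 3 - 432 * W'.a₆)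
    (by convert hΔ' using 1; ring)
  have h2K : (2 : K) ≠ 0 := by rw [← map_ofNat φ 2]; exact (h2.map φ).ne_zero
  let S : A := 4 * W.a₂ ^ 3 * W'.a₂ ^ 3 + 27 * (W.a₂ ^ 3 * W'.a₆ + W'.a₂ ^ 3 * W.a₆)
  have hS0 : φ S ≠ 0 := by
    simp only [S, map_add, map_mul, map_pow, map_ofNat]
    rw [show (27 : K) = 3 * 9 by norm_num, ← map_ofNat φ 3, h3, zero_mul, zero_mul, add_zero,
      show (4 : K) = 2 * 2 by norm_num]
    exact mul_ne_zero (mul_ne_zero (mul_ne_zero h2K h2K) (pow_ne_zero _ (u2.map φ).ne_zero))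
      (pow_ne_zero _ (u2'.map φ).ne_zero)
  refine Iso.of_unit S hS0 fun A₁ _ f₁ φ₁ hφ₁ hSu => ?_
  have hrel' := congrArg f₁ hrel
  simp only [map_mul, map_add, map_sub, map_neg, map_pow, map_ofNat, map_zero] at hrel'
  have h16 : IsUnit (16 ^ 4 : A₁) := by
    rw [show (16 : A₁) = 2 ^ 4 by norm_num, ← map_ofNat f₁ 2]; exact (((h2.map f₁).pow _).pow _)
  have key : f₁ W.a₂ ^ 3 * f₁ W'.a₆ - f₁ W'.a₂ ^ 3 * f₁ W.a₆ = 0 := by
    refine eq_of_mul_eq_zero (hSu.mul h16) ?_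
    simp only [S, map_add, map_mul, map_pow, map_ofNat]
    linear_combination -hrel'
  obtain ⟨d, hd⟩ := (u2'.map f₁).exists_right_inv
  let q : A₁ := f₁ W.a₂ * d
  have uq : IsUnit q := (u2.map f₁).mul (IsUnit.of_mul_eq_one_right _ hd)
  obtain ⟨x₀, hx₀⟩ := IsAlgClosed.exists_pow_nat_eq (φ₁ q) two_pos
  have hne : x₀ ≠ 0 := fun e => (uq.map φ₁).ne_zero (by rw [← hx₀, e]; ring)
  refine Iso.of_quad 0 (-q) x₀ (by rw [map_zero, map_neg]; linear_combination hx₀)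
    (by rw [map_zero, add_zero]; exact mul_ne_zero h2K hne) fun B _ f ψ x hψ hx hu _ => ?_
  have hxu : IsUnit x := by
    rw [map_zero, add_zero] at hu; exact isUnit_of_mul_isUnit_right hu
  let F := f.comp f₁
  have e2 : x ^ 2 * F W'.a₂ = F W.a₂ := by
    have e : f q * F W'.a₂ = F W.a₂ := by
      show f q * f (f₁ _) = f (f₁ _)
      rw [← map_mul, mul_assoc, mul_comm d, hd, mul_one]
    rw [map_zero, map_neg] at hx
    linear_combination e + F W'.a₂ * hx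
  have key' : F W.a₂ ^ 3 * F W'.a₆ - F W'.a₂ ^ 3 * F W.a₆ = 0 := by simpa [F] using congrArg f key
  have e6 : x ^ 6 * F W'.a₆ = F W.a₆ := by
    refine sub_eq_zero.mp (eq_of_mul_eq_zero ((u2'.map F).pow 3) ?_)
    linear_combination key' + F W'.a₆ * (x ^ 4 * F W'.a₂ ^ 2 + x ^ 2 * F W'.a₂ * F W.a₂ + F W.a₂ ^ 2) * e2
  simp only [WeierstrassCurve.map_map]
  refine Iso.of_eq ⟨hxu.unit, 0, 0, 0⟩ ?_
  have hinv : ((hxu.unit⁻¹ : Bˣ) : B) * x = 1 := hxu.val_inv_mul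
  ext
  · simp [variableChange_a₁, hW.a₁, hW'.a₁]
  · simp only [variableChange_a₂, map_a₂, map_a₁, hW.a₁, map_zero]
    linear_combination (-((hxu.unit⁻¹ : Bˣ) : B) ^ 2) * e2 + F W'.a₂ * (((hxu.unit⁻¹ : Bˣ) : B) * x + 1) * hinv
  · simp [variableChange_a₃, hW.a₁, hW.a₃, hW'.a₃]
  · simp [variableChange_a₄, hW.a₁, hW.a₃, hW.a₄, hW'.a₄]
  · simp only [variableChange_a₆, map_a₆, map_a₄, map_a₁, map_a₃, hW.a₁, hW.a₃, hW.a₄, map_zero]
    linear_combination (-((hxu.unit⁻¹ : Bˣ) : B) ^ 6) * e6 + F W'.a₆ *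
      ((((hxu.unit⁻¹ : Bˣ) : B) * x) ^ 3 + 1) *
      ((((hxu.unit⁻¹ : Bˣ) : B) * x) ^ 2 + ((hxu.unit⁻¹ : Bˣ) : B) * x + 1) * hinv

theorem iso_of_NF2 (h2 : φ 2 = 0) (hW : NF2 W) (hW' : NF2 W') (hS : SameJ W W') : Iso φ W W' := by
  obtain ⟨h4, h4', -, -, hΔ, hΔ', hrel⟩ := hS
  simp only [c₄, Δ, b₂, b₄, b₆, b₈, hW.a₁, hW.a₃, hW.a₄] at h4 hΔ hrel
  simp only [c₄, Δ, b₂, b₄, b₆, b₈, hW'.a₁, hW'.a₃, hW'.a₄] at h4' hΔ' hrel
  have uB : IsUnit (1 + 4 * W.a₂) := (isUnit_pow_iff two_ne_zero).mp (by convert h4 using 1; ring)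
  have uB' : IsUnit (1 + 4 * W'.a₂) := (isUnit_pow_iff two_ne_zero).mp (by convert h4' using 1; ring)
  let S : A := (1 + 4 * W.a₂) ^ 3 * (1 + 4 * W'.a₂) ^ 3 +
    432 * ((1 + 4 * W.a₂) ^ 3 * W'.a₆ + (1 + 4 * W'.a₂) ^ 3 * W.a₆)
  have hS0 : φ S ≠ 0 := by
    simp only [S, map_add, map_mul, map_pow, map_one, map_ofNat]
    rw [show (432 : K) = 2 * 216 by norm_num, show (4 : K) = 2 * 2 by norm_num, ← map_ofNat φ 2, h2]
    simp
  refine Iso.of_unit S hS0 fun A₁ _ f₁ φ₁ hφ₁ hSu => ?_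
  have hrel' := congrArg f₁ hrel
  simp only [map_mul, map_add, map_sub, map_neg, map_pow, map_ofNat, map_zero, map_one] at hrel'
  have key : (1 + 4 * f₁ W.a₂) ^ 3 * f₁ W'.a₆ - (1 + 4 * f₁ W'.a₂) ^ 3 * f₁ W.a₆ = 0 := by
    refine eq_of_mul_eq_zero hSu ?_
    simp only [S, map_add, map_mul, map_pow, map_one, map_ofNat]
    linear_combination -hrel'
  have uB₁' : IsUnit (1 + 4 * f₁ W'.a₂) := by simpa [map_ofNat] using uB'.map f₁
  obtain ⟨d, hd⟩ := uB₁'.exists_right_inv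
  let c : A₁ := (f₁ W'.a₂ - f₁ W.a₂) * d
  obtain ⟨x₀, hx₀⟩ := IsAlgClosed.exists_root (Polynomial.X ^ 2 + Polynomial.X + Polynomial.C (φ₁ c) : K[X])
    (by rw [show (Polynomial.X ^ 2 + Polynomial.X + Polynomial.C (φ₁ c) : K[X]).degree = 2 by compute_degree!]; norm_num)
  have hK : (2 : K) = 0 := by rw [← map_ofNat φ 2, h2]
  refine Iso.of_quad 1 c x₀ (by simpa using hx₀)
    (by rw [hK, zero_mul, zero_add, map_one]; exact one_ne_zero) fun B _ f ψ s hψ hs hu _ => ?_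
  rw [map_one] at hs hu
  let F := f.comp f₁
  have hd' : (1 + 4 * F W'.a₂) * f d = 1 := by simpa [F, map_ofNat] using congrArg f hd
  simp only [c, map_mul, map_sub] at hs
  have e2 : F W'.a₂ * (2 * s + 1) ^ 2 = F W.a₂ - s - s ^ 2 := by
    linear_combination (1 + 4 * F W'.a₂) * hs - (F W'.a₂ - F W.a₂) * hd'
  have key' : (1 + 4 * F W.a₂) ^ 3 * F W'.a₆ - (1 + 4 * F W'.a₂) ^ 3 * F W.a₆ = 0 := by
    simpa [F, map_ofNat] using congrArg f key
  have eB : (1 + 4 * F W'.a₂) * (2 * s + 1) ^ 2 = 1 + 4 * F W.a₂ := by linear_combination 4 * e2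
  have e6 : (2 * s + 1) ^ 6 * F W'.a₆ = F W.a₆ := by
    refine sub_eq_zero.mp (eq_of_mul_eq_zero ((IsUnit.of_mul_eq_one (f d) hd').pow 3) ?_)
    linear_combination key' + F W'.a₆ * ((1 + 4 * F W'.a₂) ^ 2 * (2 * s + 1) ^ 4 +
      (1 + 4 * F W'.a₂) * (2 * s + 1) ^ 2 * (1 + 4 * F W.a₂) + (1 + 4 * F W.a₂) ^ 2) * eB
  simp only [WeierstrassCurve.map_map]
  refine Iso.of_eq ⟨hu.unit, 0, s, 0⟩ ?_
  have hinv : ((hu.unit⁻¹ : Bˣ) : B) * (2 * s + 1) = 1 := hu.val_inv_mul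
  ext
  · simp only [variableChange_a₁, map_a₁, hW.a₁, hW'.a₁, map_one]
    linear_combination hinv
  · simp only [variableChange_a₂, map_a₂, map_a₁, hW.a₁, map_one]
    linear_combination (-((hu.unit⁻¹ : Bˣ) : B) ^ 2) * e2 +
      F W'.a₂ * (((hu.unit⁻¹ : Bˣ) : B) * (2 * s + 1) + 1) * hinv
  · simp [variableChange_a₃, hW.a₃, hW'.a₃]
  · simp [variableChange_a₄, hW.a₁, hW.a₃, hW.a₄, hW'.a₄]
  · simp only [variableChange_a₆, map_a₆, map_a₄, map_a₁, map_a₃, hW.a₁, hW.a₃, hW.a₄, map_zero, map_one]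
    linear_combination (-((hu.unit⁻¹ : Bˣ) : B) ^ 6) * e6 + F W'.a₆ *
      ((((hu.unit⁻¹ : Bˣ) : B) * (2 * s + 1)) ^ 3 + 1) *
      ((((hu.unit⁻¹ : Bˣ) : B) * (2 * s + 1)) ^ 2 + ((hu.unit⁻¹ : Bˣ) : B) * (2 * s + 1) + 1) * hinv

theorem iso_of_sameJ (hS : SameJ W W') : Iso φ W W' := by
  by_cases h2 : φ 2 = 0
  · refine toNF2 h2 hS.c4 fun A₁ _ f₁ φ₁ C₁ hφ₁ hN => ?_
    have h2₁ : φ₁ 2 = 0 := by rw [← map_ofNat f₁ 2, ← RingHom.comp_apply, hφ₁, h2]
    refine Iso.of_change C₁ 1 ?_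
    rw [one_smul]
    refine Iso.of_change (C := 1) (C' := 1) ?_
    rw [one_smul, one_smul]
    have hS₁ := (hS.map f₁).change C₁ 1
    rw [one_smul] at hS₁
    generalize C₁ • W.map f₁ = V at *
    generalize W'.map f₁ = V' at *
    suffices Iso φ₁ V' V → Iso φ₁ V V' by
      refine this (toNF2 h2₁ hS₁.c4' fun A₂ _ f₂ φ₂ C₂ hφ₂ hN₂ => ?_)
      refine Iso.of_change C₂ 1 ?_
      rw [one_smul]
      have h := ((hS₁.map f₂).symm).change C₂ 1
      rw [one_smul] at h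
      exact iso_of_NF2 (by rw [← map_ofNat f₂ 2, ← RingHom.comp_apply, hφ₂, h2₁]) hN₂ (hN.map f₂) h
    rintro ⟨B, _, _, ψ, hB, hψ, D, hD⟩
    exact ⟨B, ‹_›, ‹_›, ψ, hB, hψ, D⁻¹, by rw [← hD, inv_smul_smul]⟩
  · refine Iso.of_unit 2 h2 fun A₁ _ f₁ φ₁ hφ₁ hu₁ => ?_
    rw [map_ofNat] at hu₁
    have hS₁ := hS.map f₁
    generalize W.map f₁ = V at *
    generalize W'.map f₁ = V' at *
    by_cases h3 : φ₁ 3 = 0
    · refine toNF3 hu₁ h3 hS₁.c4 fun A₂ _ f₂ φ₂ C₂ hφ₂ hN => ?_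
      have h3₂ : φ₂ 3 = 0 := by rw [← map_ofNat f₂ 3, ← RingHom.comp_apply, hφ₂, h3]
      have hu₂ : IsUnit (2 : A₂) := by simpa [map_ofNat] using hu₁.map f₂
      refine Iso.of_change C₂ 1 ?_
      rw [one_smul]
      have hS₂ := (hS₁.map f₂).change C₂ 1
      rw [one_smul] at hS₂
      generalize C₂ • V.map f₂ = U at *
      generalize V'.map f₂ = U' at *
      suffices Iso φ₂ U' U → Iso φ₂ U U' by
        refine this (toNF3 hu₂ h3₂ hS₂.c4' fun A₃ _ f₃ φ₃ C₃ hφ₃ hN₃ => ?_)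
        refine Iso.of_change C₃ 1 ?_
        rw [one_smul]
        have h := ((hS₂.map f₃).symm).change C₃ 1
        rw [one_smul] at h
        exact iso_of_NF3 (by simpa [map_ofNat] using hu₂.map f₃)
          (by rw [← map_ofNat f₃ 3, ← RingHom.comp_apply, hφ₃, h3₂]) hN₃ (hN.map f₃) h
      rintro ⟨B, _, _, ψ, hB, hψ, D, hD⟩
      exact ⟨B, ‹_›, ‹_›, ψ, hB, hψ, D⁻¹, by rw [← hD, inv_smul_smul]⟩
    · refine Iso.of_unit 3 h3 fun A₂ _ f₂ φ₂ hφ₂ hu₂ => ?_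
      rw [map_ofNat] at hu₂
      exact iso_of_short (by simpa [map_ofNat] using hu₁.map f₂) hu₂ (hS₁.map f₂)

end Final

/-- equal `j` away from `0, 1728`: isomorphic on an étale neighbourhood of every prime -/
theorem exists_etale_variableChange {A : Type u} [CommRing A] (W₁ W₂ : WeierstrassCurve A)
    [W₁.IsElliptic] [W₂.IsElliptic] (hj : W₁.j = W₂.j) (h0 : IsUnit W₁.j) (h1728 : IsUnit (W₁.j - 1728))
    (p : PrimeSpectrum A) :
    ∃ (B : Type u) (_ : CommRing B) (_ : Algebra A B), Algebra.Etale A B ∧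
      p ∈ Set.range (PrimeSpectrum.comap (algebraMap A B)) ∧
      ∃ C : VariableChange B, C • (W₁.map (algebraMap A B)) = W₂.map (algebraMap A B) := by
  have hj1 : ∀ (W : WeierstrassCurve A) [W.IsElliptic], W.Δ * W.j = W.c₄ ^ 3 := fun W _ => by
    rw [WeierstrassCurve.j, ← coe_Δ', ← mul_assoc, Units.mul_inv, one_mul]
  have hd : ∀ (W : WeierstrassCurve A) [W.IsElliptic], IsUnit W.Δ := fun W _ => W.isUnit_Δ
  have h4 : ∀ (W : WeierstrassCurve A) [W.IsElliptic], IsUnit W.j → IsUnit W.c₄ := fun W _ h => by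
    rw [← isUnit_pow_iff three_ne_zero, ← hj1]; exact (hd W).mul h
  have h6 : ∀ (W : WeierstrassCurve A) [W.IsElliptic], IsUnit (W.j - 1728) → IsUnit W.c₆ := fun W _ h => by
    rw [← isUnit_pow_iff two_ne_zero]
    have := c_relation W
    rw [show W.c₆ ^ 2 = W.Δ * (W.j - 1728) by linear_combination this - hj1 W]
    exact (hd W).mul h
  have hS : SameJ W₁ W₂ := ⟨h4 W₁ h0, h4 W₂ (hj ▸ h0), h6 W₁ h1728, h6 W₂ (hj ▸ h1728), hd W₁, hd W₂, by
    rw [← hj1 W₁, ← hj1 W₂, hj]; ring⟩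
  let k := FractionRing (A ⧸ p.asIdeal)
  let K := AlgebraicClosure k
  let φ : A →+* K := (algebraMap k K).comp ((algebraMap (A ⧸ p.asIdeal) k).comp (Ideal.Quotient.mk p.asIdeal))
  obtain ⟨B, _, _, ψ, hB, hψ, hC⟩ := iso_of_sameJ (φ := φ) hS
  refine ⟨B, _, _, hB, ⟨⟨RingHom.ker ψ, RingHom.ker_isPrime ψ⟩, PrimeSpectrum.ext ?_⟩, hC⟩
  show (RingHom.ker ψ).comap (algebraMap A B) = p.asIdeal
  rw [RingHom.comap_ker, hψ]
  show RingHom.ker φ = p.asIdeal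
  rw [RingHom.ker_comp_of_injective _ (algebraMap k K).injective,
    RingHom.ker_comp_of_injective _ (IsFractionRing.injective (A ⧸ p.asIdeal) k), Ideal.mk_ker]

end Groth.Agent.EllJIso
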